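import Groth.Agent.PrimDecLib.Alg
import Groth.Agent.AssPointLib.Basic
import Groth.Agent.QCohLib.Extend
import Groth.Agent.DevissLib.Induction
import Groth.Prelude.Def_FDesc

/-!
# Primary components of coherent modules

For finitely many points `x` and submodules `Q x` of the stalks, co-primary for the maximal ideals,
the sections whose germs at those points lie in the `Q x` form a coherent submodule.
-/

set_option autoImplicit false
set_option linter.style.haveILetI false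
set_option maxHeartbeats 1000000
universe u

open CategoryTheory CategoryTheory.Limits AlgebraicGeometry TopologicalSpace Opposite DevissLib

noncomputable section

namespace PrimDecLib

variable {X : Scheme.{u}} (M : X.Modules)

theorem gm_add {U : X.Opens} (x : X) (hx : x ∈ U) (a b : Γ(M, U)) :
    gm M x hx (a + b) = gm M x hx a + gm M x hx b :=
  map_add (M.presheaf.germ U x hx).hom a b

/-- Sections with prescribed germs at finitely many points. -/
def LS (T : Finset X) (Q : ∀ x : X, Submodule (X.presheaf.stalk x) ((St x).obj M)) : QCohLib.LocSub M where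
  mem V a := ∀ x ∈ T, ∀ h : x ∈ V, gm M x h a ∈ Q x
  zero V x _ h := by rw [gm_zero]; exact (Q x).zero_mem
  add {V a b} ha hb x hx h := by rw [gm_add]; exact (Q x).add_mem (ha x hx h) (hb x hx h)
  smul {V} r {a} ha x hx h := by rw [gm_smul]; exact (Q x).smul_mem _ (ha x hx h)
  res {V W} hVW {a} ha x hx h := by rw [gm_map]; exact ha x hx (hVW h)
  local' {V} a h x hx hxV := by
    obtain ⟨W, hW, hxW, hm⟩ := h x hxV
    have h1 := hm x hx hxW
    rwa [gm_map] at h1

variable {M}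

theorem mem_range_ι_iff (S : QCohLib.LocSub M) (y : X) (a : (St y).obj M) :
    (∃ b, ((St y).map S.ι).hom b = a) ↔
      ∃ (V : X.Opens) (hy : y ∈ V) (s : Γ(M, V)), S.mem V s ∧ gm M y hy s = a := by
  constructor
  · rintro ⟨b, rfl⟩
    obtain ⟨V, hy, z, rfl⟩ := exists_gm_eq _ y b
    exact ⟨V, hy, S.ι.app V z, S.ι_app_mem z, (gm_app S.ι y hy z).symm⟩
  · rintro ⟨V, hy, s, hs, rfl⟩
    exact ⟨gm _ y hy (S.lift s hs), by rw [gm_app, S.ι_lift]⟩

theorem cokernel_π_eq_zero_iff {A B : X.Modules} (φ : A ⟶ B) (y : X) (a : (St y).obj B) :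
    ((St y).map (cokernel.π φ)).hom a = 0 ↔ ∃ b, ((St y).map φ).hom b = a := by
  let S : ShortComplex X.Modules := ShortComplex.mk φ (cokernel.π φ) (cokernel.condition φ)
  have hS : S.Exact := ShortComplex.exact_of_g_is_cokernel _ (cokernelIsCokernel φ)
  have h := (ShortComplex.ShortExact.moduleCat_exact_iff_function_exact (S.map (St y))).mp (hS.map (St y))
  exact h a

theorem cokernel_π_surjective {A B : X.Modules} (φ : A ⟶ B) (y : X) :
    Function.Surjective ((St y).map (cokernel.π φ)).hom :=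
  (ModuleCat.epi_iff_surjective ((St y).map (cokernel.π φ))).mp inferInstance

/-- The stalks of the cokernel at the chosen point. -/
theorem π_eq_zero_iff (T : Finset X) (Q : ∀ x : X, Submodule (X.presheaf.stalk x) ((St x).obj M))
    {x : X} (hT : T = {x}) (a : (St x).obj M) :
    ((St x).map (cokernel.π (LS M T Q).ι)).hom a = 0 ↔ a ∈ Q x := by
  rw [cokernel_π_eq_zero_iff, mem_range_ι_iff]
  constructor
  · rintro ⟨V, hx, s, hs, rfl⟩
    exact hs x (hT ▸ Finset.mem_singleton_self x) hx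
  · intro ha
    obtain ⟨V, hx, s, rfl⟩ := exists_gm_eq M x a
    refine ⟨V, hx, s, fun y hy hyV => ?_, rfl⟩
    obtain rfl : y = x := Finset.mem_singleton.1 (hT ▸ hy)
    exact ha

/-- The submodule is of finite type everywhere. -/
theorem ftBelow_LS [IsLocallyNoetherian X] (hM : Coh.IsCoh M) (T : Finset X)
    (Q : ∀ x : X, Submodule (X.presheaf.stalk x) ((St x).obj M))
    (hQ : ∀ x ∈ T, ∀ r ∈ IsLocalRing.maximalIdeal (X.presheaf.stalk x),
      ∃ k : ℕ, ∀ n : (St x).obj M, r ^ k • n ∈ Q x) :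
    QCohLib.LocSub.FTBelow (LS M T Q) ⊤ := by
  classical
  intro p _
  haveI : Coh.IsQCoh M := hM.1
  obtain ⟨V, hV, hpV⟩ := QCohLib.exists_affine_nhd p
  haveI : IsNoetherianRing Γ(X, V) := IsLocallyNoetherian.component_noetherian ⟨V, hV⟩
  haveI : Module.Finite Γ(X, V) Γ(M, V) := QCohLib.finite_of_isFT hM.2 hV
  haveI : IsNoetherian Γ(X, V) Γ(M, V) := isNoetherian_of_isNoetherianRing_of_finite _ _
  obtain ⟨n, s, hs⟩ := Submodule.fg_iff_exists_fin_generating_family.1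
    (IsNoetherian.noetherian ((LS M T Q).sub V))
  have hs' : ∀ i, (LS M T Q).mem V (s i) := fun i => by
    have : s i ∈ (LS M T Q).sub V := hs ▸ Submodule.subset_span ⟨i, rfl⟩
    exact this
  refine ⟨V, le_top, hpV, n, fun i => s i.down, fun i => hs' i.down, fun W hWV a ha q hqW hqV => ?_⟩
  obtain ⟨f, hfW, hqf⟩ := QCohLib.exists_basicOpen_nhd hV hqW hqV
  obtain ⟨m, t, ht⟩ := (QCohLib.localizingAt_of_isQCoh hV M f).exists_extend
    (M.presheaf.map (homOfLE hfW).op a)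
  have hk : ∀ x : X, ∃ k : ℕ, x ∈ T → ∀ hx : x ∈ V, x ∉ X.basicOpen f →
      ∀ n : (St x).obj M, (X.presheaf.germ V x hx f) ^ k • n ∈ Q x := by
    intro x
    by_cases hxT : x ∈ T ∧ x ∈ V ∧ x ∉ X.basicOpen f
    · obtain ⟨k, hk⟩ := hQ x hxT.1 (X.presheaf.germ V x hxT.2.1 f)
        (fun hu => hxT.2.2 ((X.mem_basicOpen f x hxT.2.1).2 hu))
      exact ⟨k, fun _ _ _ => hk⟩
    · exact ⟨0, fun h1 h2 h3 => absurd ⟨h1, h2, h3⟩ hxT⟩
  choose k hk using hk
  let K := T.sup k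
  have htm : (LS M T Q).mem V (f ^ K • t) := by
    intro x hxT hxV
    rw [gm_smul]
    by_cases hxf : x ∈ X.basicOpen f
    · refine (Q x).smul_mem _ ?_
      have h1 := congr_arg (gm M x hxf) ht
      rw [gm_map, gm_smul, gm_map] at h1
      rw [h1]
      exact (Q x).smul_mem _ (ha x hxT (hfW hxf))
    · obtain ⟨d, hd⟩ := Nat.exists_eq_add_of_le (Finset.le_sup (f := k) hxT)
      rw [map_pow, show K = k x + d from hd, pow_add, mul_comm, mul_smul]
      exact (Q x).smul_mem _ (hk x hxT hxV hxf _)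
  obtain ⟨c, hc⟩ := (Submodule.mem_span_range_iff_exists_fun _).1
    (hs.symm ▸ (show f ^ K • t ∈ (LS M T Q).sub V from htm))
  obtain ⟨v, hv⟩ := (QCohLib.isUnit_res f (le_refl (X.basicOpen f))).pow (K + m)
  refine ⟨X.basicOpen f, hfW, X.basicOpen_le f, hqf,
    fun i => ↑v⁻¹ * X.presheaf.map (homOfLE (X.basicOpen_le f)).op (c i.down), ?_⟩
  have h2 := congr_arg (M.presheaf.map (homOfLE (X.basicOpen_le f)).op) hc
  rw [map_sum, QCohLib.map_smul', ht, ← mul_smul, map_pow, ← pow_add, ← hv] at h2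
  simp only [mul_smul, ← Finset.smul_sum]
  refine Eq.trans ?_ (congr_arg (fun z => (↑v⁻¹ : Γ(X, X.basicOpen f)) • z)
    (Eq.trans h2.symm (Eq.trans (Finset.sum_congr rfl fun i _ => QCohLib.map_smul' M _ _ _)
      (Fintype.sum_equiv Equiv.ulift.symm _ (fun i : ULift.{u} (Fin n) =>
        X.presheaf.map (homOfLE (X.basicOpen_le f)).op (c i.down) •
          M.presheaf.map (homOfLE (X.basicOpen_le f)).op (s i.down)) fun i => rfl))))
  rw [smul_smul, Units.inv_mul, one_smul]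

theorem isQCoh_LS [IsLocallyNoetherian X] (hM : Coh.IsCoh M) (T : Finset X)
    (Q : ∀ x : X, Submodule (X.presheaf.stalk x) ((St x).obj M))
    (hQ : ∀ x ∈ T, ∀ r ∈ IsLocalRing.maximalIdeal (X.presheaf.stalk x),
      ∃ k : ℕ, ∀ n : (St x).obj M, r ^ k • n ∈ Q x) :
    Coh.IsQCoh (LS M T Q).toModules :=
  haveI : Coh.IsQCoh M := hM.1
  QCohLib.LocSub.isQCoh_toModules _ (ftBelow_LS hM T Q hQ)

theorem isCoh_LS [IsLocallyNoetherian X] (hM : Coh.IsCoh M) (T : Finset X)
    (Q : ∀ x : X, Submodule (X.presheaf.stalk x) ((St x).obj M))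
    (hQ : ∀ x ∈ T, ∀ r ∈ IsLocalRing.maximalIdeal (X.presheaf.stalk x),
      ∃ k : ℕ, ∀ n : (St x).obj M, r ^ k • n ∈ Q x) :
    Coh.IsCoh (LS M T Q).toModules :=
  ⟨isQCoh_LS hM T Q hQ, QCohLib.LocSub.isFT_toModules _ (ftBelow_LS hM T Q hQ)⟩

theorem eq_zero_of_not_specializes [IsLocallyNoetherian X] {T : Finset X}
    {Q : ∀ x : X, Submodule (X.presheaf.stalk x) ((St x).obj M)} {x : X} (hT : T = {x}) {y : X}
    (hxy : ¬ x ⤳ y) (a : (St y).obj (cokernel (LS M T Q).ι)) : a = 0 := by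
  obtain ⟨b, rfl⟩ := cokernel_π_surjective (LS M T Q).ι y a
  rw [cokernel_π_eq_zero_iff, mem_range_ι_iff]
  obtain ⟨V, hyV, s, rfl⟩ := exists_gm_eq M y b
  let W : X.Opens := V ⊓ ⟨(closure {x})ᶜ, isClosed_closure.isOpen_compl⟩
  have hyW : y ∈ W := ⟨hyV, fun h => hxy (specializes_iff_mem_closure.2 h)⟩
  refine ⟨W, hyW, M.presheaf.map (homOfLE inf_le_left).op s, fun z hz hzW => ?_, gm_map M _ y hyW s⟩
  obtain rfl : z = x := Finset.mem_singleton.1 (hT ▸ hz)
  exact absurd (subset_closure (Set.mem_singleton z)) hzW.2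

theorem eq_of_mem_ass [IsLocallyNoetherian X] {T : Finset X}
    {Q : ∀ x : X, Submodule (X.presheaf.stalk x) ((St x).obj M)} {x : X} (hT : T = {x}) {y : X}
    (hy : y ∈ AssSch.Ass (cokernel (LS M T Q).ι)) : y = x := by
  by_contra hne
  obtain ⟨hp, a, ha⟩ := isAssociatedPrime_iff.1
    (show IsAssociatedPrime (IsLocalRing.maximalIdeal (X.presheaf.stalk y))
      ((St y).obj (cokernel (LS M T Q).ι)) from hy)
  have ha' : ∀ r ∈ IsLocalRing.maximalIdeal (X.presheaf.stalk y), r • a = 0 := fun r hr => by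
    rw [ha, Submodule.mem_colon_singleton, Submodule.mem_bot] at hr
    exact hr
  suffices a = 0 by
    refine hp.ne_top ?_
    rw [ha, this, Ideal.eq_top_iff_one, Submodule.mem_colon_singleton, Submodule.mem_bot, smul_zero]
  by_cases hxy : x ⤳ y
  swap
  · exact eq_zero_of_not_specializes hT hxy a
  obtain ⟨b, rfl⟩ := cokernel_π_surjective (LS M T Q).ι y a
  obtain ⟨W, hyW, s₀, rfl⟩ := exists_gm_eq M y b
  obtain ⟨V, hV, hyV, hVW⟩ := TopologicalSpace.Opens.isBasis_iff_nbhd.mp X.isBasis_affineOpens hyW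
  let s : Γ(M, V) := M.presheaf.map (homOfLE hVW).op s₀
  have hs : gm M y hyV s = gm M y hyW s₀ := gm_map M hVW y hyV s₀
  rw [← hs] at ha' ⊢
  have hxV : x ∈ V := hxy.mem_open V.isOpen hyV
  obtain ⟨f, hfy, hfx⟩ : ∃ f, f ∈ (hV.primeIdealOf ⟨y, hyV⟩).asIdeal ∧
      f ∉ (hV.primeIdealOf ⟨x, hxV⟩).asIdeal := by
    refine SetLike.not_le_iff_exists.1 fun hle => hne ?_
    have h2 := ((PrimeSpectrum.le_iff_specializes _ _).1 hle).map hV.fromSpec.continuous
    rw [hV.fromSpec_primeIdealOf, hV.fromSpec_primeIdealOf] at h2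
    exact (h2.antisymm hxy).eq
  have h0 := ha' _ (AssPointLib.germ_mem_maximal hV hyV hfy)
  rw [← map_smul, ← gm_smul, cokernel_π_eq_zero_iff, mem_range_ι_iff] at h0
  obtain ⟨W', hyW', s', hs', hgs'⟩ := h0
  obtain ⟨O, hyO, i₁, i₂, hO⟩ := TopCat.Presheaf.germ_eq M.presheaf y hyW' hyV s' (f • s) hgs'
  have hxO : x ∈ O := hxy.mem_open O.isOpen hyO
  have hxW' : x ∈ W' := i₁.le hxO
  have h1 : gm M x hxW' s' = gm M x hxV (f • s) :=
    ((gm_map M i₁.le x hxO s').symm.trans (congr_arg (gm M x hxO) hO)).trans (gm_map M i₂.le x hxO (f • s))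
  have h2 : gm M x hxV s ∈ Q x := by
    have h3 := hs' x (hT ▸ Finset.mem_singleton_self x) hxW'
    rw [h1, gm_smul] at h3
    exact (Submodule.smul_mem_iff_of_isUnit _ (AssPointLib.isUnit_germ hV hxV hfx)).1 h3
  refine (cokernel_π_eq_zero_iff _ y _).2 ((mem_range_ι_iff _ y _).2 ⟨V, hyV, s, fun z hz hzV => ?_, rfl⟩)
  obtain rfl : z = x := Finset.mem_singleton.1 (hT ▸ hz)
  exact h2

/-- A nonzero germ has an associated element at a generalization, among the multiples of the section. -/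
theorem exists_killed_specializes [IsLocallyNoetherian X] (hM : Coh.IsCoh M) {V : X.Opens} (hV : IsAffineOpen V)
    {y : X} (hy : y ∈ V) (g : Γ(M, V)) (h0 : gm M y hy g ≠ 0) :
    ∃ (z : X) (hz : z ∈ V) (c : Γ(X, V)), gm M z hz (c • g) ≠ 0 ∧
      ∀ r ∈ IsLocalRing.maximalIdeal (X.presheaf.stalk z), r • gm M z hz (c • g) = 0 := by
  haveI : Coh.IsQCoh M := hM.1
  haveI : IsNoetherianRing Γ(X, V) := IsLocallyNoetherian.component_noetherian ⟨V, hV⟩
  let N : Submodule Γ(X, V) Γ(M, V) := Submodule.span Γ(X, V) {g}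
  have hann : Module.annihilator Γ(X, V) N ≤ (hV.primeIdealOf ⟨y, hy⟩).asIdeal := by
    intro a ha
    by_contra hax
    have h1 := Module.mem_annihilator.1 ha ⟨g, Submodule.mem_span_singleton_self g⟩
    exact h0 ((gm_eq_zero_iff hV y hy g).2 ⟨a, hax, congrArg Subtype.val h1⟩)
  obtain ⟨p, hpmin, -⟩ := Ideal.exists_minimalPrimes_le hann
  haveI : Module.Finite Γ(X, V) N := Module.Finite.span_of_finite _ (Set.finite_singleton g)
  obtain ⟨hprime, ⟨c', hc'⟩, hp'⟩ := isAssociatedPrime_iff.mp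
    (Module.associatedPrimes.minimalPrimes_annihilator_subset_associatedPrimes Γ(X, V) N hpmin)
  obtain ⟨c, rfl⟩ := Submodule.mem_span_singleton.1 hc'
  have hp : ∀ a, a ∈ p ↔ a • (c • g) = 0 := fun a => by
    rw [hp', Submodule.mem_colon_singleton, Submodule.mem_bot, ← Subtype.coe_inj]
    rfl
  let q : PrimeSpectrum Γ(X, V) := ⟨p, hprime⟩
  have hz : hV.fromSpec q ∈ V := by
    have : hV.fromSpec q ∈ Set.range hV.fromSpec := ⟨q, rfl⟩
    rwa [hV.range_fromSpec] at this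
  have hq : hV.primeIdealOf ⟨hV.fromSpec q, hz⟩ = q :=
    hV.fromSpec.isOpenEmbedding.injective (hV.fromSpec_primeIdealOf ⟨_, hz⟩)
  refine ⟨hV.fromSpec q, hz, c, fun h => ?_, maximalIdeal_smul_gm hV _ hz _ fun a ha => ?_⟩
  · obtain ⟨a, ha, hag⟩ := (gm_eq_zero_iff hV _ hz _).mp h
    rw [hq] at ha
    exact ha ((hp a).mpr hag)
  · rw [hq] at ha
    rw [(hp a).mp ha, gm_zero]

variable (M)

/-- Primary data for a coherent module. -/
theorem exists_data [IsLocallyNoetherian X] (hM : Coh.IsCoh M) :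
    ∃ Q : ∀ x : X, Submodule (X.presheaf.stalk x) ((St x).obj M),
      (∀ x, ∀ r ∈ IsLocalRing.maximalIdeal (X.presheaf.stalk x), ∃ k : ℕ, ∀ n : (St x).obj M, r ^ k • n ∈ Q x) ∧
      (∀ x, ∀ n ∈ Q x, (∀ r ∈ IsLocalRing.maximalIdeal (X.presheaf.stalk x), r • n = 0) → n = 0) ∧
      ∀ x ∈ AssSch.Ass M, ∃ n, n ∉ Q x ∧ ∀ r ∈ IsLocalRing.maximalIdeal (X.presheaf.stalk x), r • n ∈ Q x := by
  have h : ∀ x : X, ∃ Q : Submodule (X.presheaf.stalk x) ((St x).obj M),
      (∀ r ∈ IsLocalRing.maximalIdeal (X.presheaf.stalk x), ∃ k : ℕ, ∀ n : (St x).obj M, r ^ k • n ∈ Q) ∧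
      (∀ n ∈ Q, (∀ r ∈ IsLocalRing.maximalIdeal (X.presheaf.stalk x), r • n = 0) → n = 0) ∧
      (x ∈ AssSch.Ass M → ∃ n, n ∉ Q ∧ ∀ r ∈ IsLocalRing.maximalIdeal (X.presheaf.stalk x), r • n ∈ Q) := by
    intro x
    haveI : IsNoetherian (X.presheaf.stalk x) ((St x).obj M) := isNoetherian_stalk hM x
    by_cases hx : x ∈ AssSch.Ass M
    · obtain ⟨Q, h1, h2, h3⟩ := exists_primary
        (show IsAssociatedPrime (IsLocalRing.maximalIdeal (X.presheaf.stalk x)) ((St x).obj M) from hx)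
      exact ⟨Q, h2, h1, fun _ => h3⟩
    · refine ⟨⊤, fun r _ => ⟨0, fun n => trivial⟩, fun n _ hn => ?_, fun h => absurd h hx⟩
      by_contra h0
      exact hx (isAssociatedPrime_maximalIdeal h0 hn)
  choose Q h1 h2 h3 using h
  exact ⟨Q, h1, h2, h3⟩

variable {M}

/-- Sections with germs in all the primary components vanish. -/
theorem eq_zero_of_forall_mem [IsLocallyNoetherian X] (hM : Coh.IsCoh M)
    {Q : ∀ x : X, Submodule (X.presheaf.stalk x) ((St x).obj M)}
    (hQ : ∀ x, ∀ n ∈ Q x, (∀ r ∈ IsLocalRing.maximalIdeal (X.presheaf.stalk x), r • n = 0) → n = 0)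
    {W : X.Opens} (s : Γ(M, W)) (hs : ∀ x ∈ AssSch.Ass M, ∀ h : x ∈ W, gm M x h s ∈ Q x) : s = 0 := by
  refine TopCat.Presheaf.section_ext (F := ⟨M.presheaf, M.isSheaf⟩) W _ _ fun y hy => ?_
  refine Eq.trans ?_ (map_zero _).symm
  by_contra hne
  obtain ⟨V, hV, hyV, hVW⟩ := TopologicalSpace.Opens.isBasis_iff_nbhd.mp X.isBasis_affineOpens hy
  obtain ⟨z, hz, c, hc0, hck⟩ := exists_killed_specializes hM hV hyV (M.presheaf.map (homOfLE hVW).op s)
    (fun h => hne (by rwa [gm_map] at h))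
  refine hc0 (hQ z _ ?_ hck)
  rw [gm_smul, gm_map]
  exact (Q z).smul_mem _ (hs z (isAssociatedPrime_maximalIdeal hc0 hck) (hVW hz))

theorem ass_cokernel [IsLocallyNoetherian X] {T : Finset X}
    {Q : ∀ x : X, Submodule (X.presheaf.stalk x) ((St x).obj M)} {x : X} (hT : T = {x})
    {n : (St x).obj M} (hn : n ∉ Q x)
    (hk : ∀ r ∈ IsLocalRing.maximalIdeal (X.presheaf.stalk x), r • n ∈ Q x) :
    AssSch.Ass (cokernel (LS M T Q).ι) = {x} := by
  refine Set.eq_singleton_iff_unique_mem.2 ⟨?_, fun y hy => eq_of_mem_ass hT hy⟩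
  show IsAssociatedPrime (IsLocalRing.maximalIdeal (X.presheaf.stalk x)) ((St x).obj (cokernel (LS M T Q).ι))
  refine isAssociatedPrime_maximalIdeal (n := ((St x).map (cokernel.π (LS M T Q).ι)).hom n)
    (fun h => hn ((π_eq_zero_iff T Q hT n).1 h)) fun r hr => ?_
  rw [← map_smul, π_eq_zero_iff T Q hT]
  exact hk r hr

end PrimDecLib
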