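import Mathlib

/-!
# A submodule with quotient primary for the maximal ideal
-/

set_option autoImplicit false
universe u v

open IsLocalRing

namespace PrimDecLib

variable {R : Type u} [CommRing R] [IsLocalRing R] {N : Type v} [AddCommGroup N] [Module R N]

/-- An element of a module killed exactly by the maximal ideal gives that ideal as associated prime. -/
theorem isAssociatedPrime_maximalIdeal [IsNoetherianRing R] {n : N} (hn : n ≠ 0)
    (h : ∀ r ∈ maximalIdeal R, r • n = 0) : IsAssociatedPrime (maximalIdeal R) N := by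
  rw [isAssociatedPrime_iff]
  refine ⟨inferInstance, n, le_antisymm (fun r hr => ?_) (fun r hr => ?_)⟩
  · rw [Submodule.mem_colon_singleton, Submodule.mem_bot]
    exact h r hr
  · rw [Submodule.mem_colon_singleton, Submodule.mem_bot] at hr
    by_contra hrm
    exact hn ((IsLocalRing.notMem_maximalIdeal.1 hrm).smul_eq_zero.1 hr)

/-- For an associated maximal ideal there is a submodule, without it among its associated primes, whose
quotient has it as its only associated prime. -/
theorem exists_primary [IsNoetherianRing R] [Module.Finite R N] (hm : IsAssociatedPrime (maximalIdeal R) N) :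
    ∃ Q : Submodule R N, (∀ n ∈ Q, (∀ r ∈ maximalIdeal R, r • n = 0) → n = 0) ∧
      (∀ r ∈ maximalIdeal R, ∃ k : ℕ, ∀ n : N, r ^ k • n ∈ Q) ∧
      ∃ n : N, n ∉ Q ∧ ∀ r ∈ maximalIdeal R, r • n ∈ Q := by
  haveI : IsNoetherian R N := isNoetherian_of_isNoetherianRing_of_finite R N
  let S : Set (Submodule R N) := {Q | ∀ n ∈ Q, (∀ r ∈ maximalIdeal R, r • n = 0) → n = 0}
  obtain ⟨Q, hQ, hmax⟩ := set_has_maximal_iff_noetherian.2 (inferInstance : IsNoetherian R N) S
    ⟨⊥, fun n hn _ => (Submodule.mem_bot R).1 hn⟩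
  have hass : ∀ p, IsAssociatedPrime p (N ⧸ Q) → p = maximalIdeal R := by
    intro p hp
    obtain ⟨hp', z, hz⟩ := isAssociatedPrime_iff.1 hp
    obtain ⟨n, rfl⟩ := Q.mkQ_surjective z
    by_contra hne
    have hz' : ∀ c : R, c ∈ p ↔ c • n ∈ Q := fun c => by
      rw [hz, Submodule.mem_colon_singleton, Submodule.mem_bot, ← map_smul, Submodule.mkQ_apply,
        Submodule.Quotient.mk_eq_zero]
    have hlt : Q < Q ⊔ Submodule.span R {n} := by
      refine lt_of_le_of_ne le_sup_left fun he => hp'.ne_top ?_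
      rw [Ideal.eq_top_iff_one, hz', one_smul, he]
      exact Submodule.mem_sup_right (Submodule.mem_span_singleton_self n)
    refine hmax (Q ⊔ Submodule.span R {n}) (fun w hw hwk => ?_) hlt
    obtain ⟨q, hq, v, hv, rfl⟩ := Submodule.mem_sup.1 hw
    obtain ⟨c, rfl⟩ := Submodule.mem_span_singleton.1 hv
    obtain ⟨r, hr, hrp⟩ := SetLike.not_le_iff_exists.1
      (fun hle : maximalIdeal R ≤ p => hne ((IsLocalRing.maximalIdeal.isMaximal R).eq_of_le hp'.ne_top hle).symm)
    have hrc : r * c ∈ p := by
      rw [hz', mul_smul]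
      have h1 : r • (c • n) = - (r • q) := by
        rw [eq_neg_iff_add_eq_zero, add_comm, ← smul_add]
        exact hwk r hr
      rw [h1]
      exact Q.neg_mem (Q.smul_mem r hq)
    exact hQ _ (Q.add_mem hq ((hz' c).1 ((hp'.mem_or_mem hrc).resolve_left hrp))) hwk
  have hne : Nontrivial (N ⧸ Q) := by
    rw [Submodule.Quotient.nontrivial_iff]
    rintro rfl
    obtain ⟨hp', z, hz⟩ := isAssociatedPrime_iff.1 hm
    refine hp'.ne_top ?_
    have := hQ z Submodule.mem_top fun r hr => by
      rw [hz, Submodule.mem_colon_singleton, Submodule.mem_bot] at hr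
      exact hr
    rw [hz, this, Ideal.eq_top_iff_one, Submodule.mem_colon_singleton, Submodule.mem_bot, smul_zero]
  refine ⟨Q, hQ, fun r hr => ?_, ?_⟩
  · have h1 : r ∈ (Module.annihilator R (N ⧸ Q)).radical := by
      rw [← Ideal.sInf_minimalPrimes, Submodule.mem_sInf]
      intro p hp
      rw [hass p (Module.associatedPrimes.minimalPrimes_annihilator_subset_associatedPrimes R (N ⧸ Q) hp)]
      exact hr
    obtain ⟨k, hk⟩ := h1
    refine ⟨k, fun n => ?_⟩
    have h2 := Module.mem_annihilator.1 hk (Q.mkQ n)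
    rwa [← map_smul, Submodule.mkQ_apply, Submodule.Quotient.mk_eq_zero] at h2
  · obtain ⟨p, hp⟩ := associatedPrimes.nonempty R (N ⧸ Q)
    obtain ⟨hp', z, hz⟩ := isAssociatedPrime_iff.1 hp
    obtain ⟨n, rfl⟩ := Q.mkQ_surjective z
    have hpm := hass p hp
    refine ⟨n, fun hn => ?_, fun r hr => ?_⟩
    · have h0 : Q.mkQ n = 0 := by rwa [Submodule.mkQ_apply, Submodule.Quotient.mk_eq_zero]
      refine hp'.ne_top ?_
      rw [hz, h0, Ideal.eq_top_iff_one, Submodule.mem_colon_singleton, Submodule.mem_bot, smul_zero]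
    · rw [← hpm, hz, Submodule.mem_colon_singleton, Submodule.mem_bot, ← map_smul, Submodule.mkQ_apply,
        Submodule.Quotient.mk_eq_zero] at hr
      exact hr

end PrimDecLib
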